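import Cfsg.Agent.Leech.OctadCentralizer

/-!
Data for the centraliser of an involution in the joint stabiliser of two vectors: 35 fixed vectors,
six words in elements of the octad centraliser and their permutations of the vectors.
-/

set_option autoImplicit false
set_option maxRecDepth 100000

namespace CfsgLib.McLInv

open Cfsg CfsgLib.Leech

/-- A vector given by a list in the order of `idxPt`. -/
def toVec (l : List ℤ) : GolayPt → ℤ := fun i => l.getD (ptIdx i) 0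

/-- The list of a vector. -/
def listOf (f : GolayPt → ℤ) : List ℤ := (List.range 24).map fun n => f (idxPt n)

/-- The first vector. -/
def vList : List ℤ := [0, 0, 0, 0, 4, 0, 4, 0, 0, 0, 0, 0, 0, 0, 0, 0, 0, 0, 0, 0, 0, 0, 0, 0]

/-- The second vector. -/
def wList : List ℤ := [0, 0, 0, 0, -2, 0, 0, 0, 0, -2, 2, 0, 0, 2, 0, 2, 2, 0, 0, 0, 2, 0, 2, 0]

/-- The fixed vectors at the given inner products with the pair. -/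
def xLists : List (List ℤ) :=
  [ [0, 0, 0, 0, 4, 0, 0, 0, 0, 4, 0, 0, 0, 0, 0, 0, 0, 0, 0, 0, 0, 0, 0, 0],
    [0, 0, 0, 0, 4, 0, 0, 0, 0, 0, -4, 0, 0, 0, 0, 0, 0, 0, 0, 0, 0, 0, 0, 0],
    [0, 0, 0, 0, 4, 0, 0, 0, 0, 0, 0, 0, 0, -4, 0, 0, 0, 0, 0, 0, 0, 0, 0, 0],
    [0, 0, 0, 0, 4, 0, 0, 0, 0, 0, 0, 0, 0, 0, 0, -4, 0, 0, 0, 0, 0, 0, 0, 0],
    [0, 0, 0, 0, 4, 0, 0, 0, 0, 0, 0, 0, 0, 0, 0, 0, -4, 0, 0, 0, 0, 0, 0, 0],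
    [0, 0, 0, 0, 4, 0, 0, 0, 0, 0, 0, 0, 0, 0, 0, 0, 0, 0, 0, 0, -4, 0, 0, 0],
    [0, 0, 0, 0, 4, 0, 0, 0, 0, 0, 0, 0, 0, 0, 0, 0, 0, 0, 0, 0, 0, 0, -4, 0],
    [0, 0, 0, 0, 2, 0, 2, -2, 0, 0, 0, 0, 0, -2, 0, 0, -2, 0, 0, 2, 0, 2, -2, 0],
    [0, 0, 0, 0, 2, 0, 2, 2, 0, 0, 0, 0, 0, -2, 0, 0, -2, 0, 0, -2, 0, 2, -2, 0],
    [0, 0, 0, 0, 2, 0, 2, 2, 0, 0, 0, 0, 0, -2, 0, 0, -2, 0, 0, 2, 0, -2, -2, 0],
    [0, 0, 0, 0, 2, 0, 2, -2, 0, 0, 0, 0, 0, -2, 0, 0, -2, 0, 0, -2, 0, -2, -2, 0],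
    [0, 0, 0, 0, 2, 0, 2, -2, 2, 0, 0, 0, 0, 0, 0, -2, 0, 0, 2, 0, -2, 0, -2, 0],
    [0, 0, 0, 0, 2, 0, 2, 2, -2, 0, 0, 0, 0, 0, 0, -2, 0, 0, 2, 0, -2, 0, -2, 0],
    [0, 0, 0, 0, 2, 0, 2, 2, 2, 0, 0, 0, 0, 0, 0, -2, 0, 0, -2, 0, -2, 0, -2, 0],
    [0, 0, 0, 0, 2, 0, 2, -2, -2, 0, 0, 0, 0, 0, 0, -2, 0, 0, -2, 0, -2, 0, -2, 0],
    [0, 0, 0, 0, 2, 0, 2, 0, 0, 0, -2, -2, 0, 0, 0, -2, -2, 0, 2, 0, 0, 2, 0, 0],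
    [0, 0, 0, 0, 2, 0, 2, 0, 0, 0, -2, 2, 0, 0, 0, -2, -2, 0, -2, 0, 0, 2, 0, 0],
    [0, 0, 0, 0, 2, 0, 2, 0, 0, 0, -2, 2, 0, 0, 0, -2, -2, 0, 2, 0, 0, -2, 0, 0],
    [0, 0, 0, 0, 2, 0, 2, 0, 0, 0, -2, -2, 0, 0, 0, -2, -2, 0, -2, 0, 0, -2, 0, 0],
    [0, 0, 0, 0, 2, 0, 2, 0, -2, 0, -2, 2, 0, -2, 0, 0, 0, 0, 0, 2, -2, 0, 0, 0],
    [0, 0, 0, 0, 2, 0, 2, 0, 2, 0, -2, -2, 0, -2, 0, 0, 0, 0, 0, 2, -2, 0, 0, 0],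
    [0, 0, 0, 0, 2, 0, 2, 0, 2, 0, -2, 2, 0, -2, 0, 0, 0, 0, 0, -2, -2, 0, 0, 0],
    [0, 0, 0, 0, 2, 0, 2, 0, -2, 0, -2, -2, 0, -2, 0, 0, 0, 0, 0, -2, -2, 0, 0, 0],
    [0, 0, 0, 0, 2, 0, 2, 0, 0, 2, 0, 0, 2, -2, 0, -2, 0, 0, 2, 2, 0, 0, 0, 0],
    [0, 0, 0, 0, 2, 0, 2, 0, 0, 2, 0, 0, -2, -2, 0, -2, 0, 0, -2, 2, 0, 0, 0, 0],
    [0, 0, 0, 0, 2, 0, 2, 0, 0, 2, 0, 0, -2, -2, 0, -2, 0, 0, 2, -2, 0, 0, 0, 0],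
    [0, 0, 0, 0, 2, 0, 2, 0, 0, 2, 0, 0, 2, -2, 0, -2, 0, 0, -2, -2, 0, 0, 0, 0],
    [0, 0, 0, 0, 2, 0, 2, 0, 2, 2, 0, 0, 2, 0, 0, 0, -2, 0, 0, 0, -2, 2, 0, 0],
    [0, 0, 0, 0, 2, 0, 2, 0, -2, 2, 0, 0, -2, 0, 0, 0, -2, 0, 0, 0, -2, 2, 0, 0],
    [0, 0, 0, 0, 2, 0, 2, 0, -2, 2, 0, 0, 2, 0, 0, 0, -2, 0, 0, 0, -2, -2, 0, 0],
    [0, 0, 0, 0, 2, 0, 2, 0, 2, 2, 0, 0, -2, 0, 0, 0, -2, 0, 0, 0, -2, -2, 0, 0],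
    [0, 0, 0, 0, 2, 0, 2, 2, 0, 2, -2, 2, 2, 0, 0, 0, 0, 0, 0, 0, 0, 0, -2, 0],
    [0, 0, 0, 0, 2, 0, 2, -2, 0, 2, -2, -2, 2, 0, 0, 0, 0, 0, 0, 0, 0, 0, -2, 0],
    [0, 0, 0, 0, 2, 0, 2, -2, 0, 2, -2, 2, -2, 0, 0, 0, 0, 0, 0, 0, 0, 0, -2, 0],
    [0, 0, 0, 0, 2, 0, 2, 2, 0, 2, -2, -2, -2, 0, 0, 0, 0, 0, 0, 0, 0, 0, -2, 0] ]

/-- One of the vectors. -/
def xList (j : Fin 35) : List ℤ := xLists.getD j []

/-- The letters as maps of integer vectors. -/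
def letterFun (k : Fin 12) : (GolayPt → ℤ) → GolayPt → ℤ :=
  if h : (k : ℕ) < 7 then genFun ⟨k, h⟩
  else fun x i => x (tableFun (spreadTables (Fin.ofNat 5 ((k : ℕ) - 7))).1.1 i)

/-- The index tables of the letters that permute. -/
def letterTab : Fin 12 → List ℕ :=
  ![[],
    [0, 1, 5, 2, 21, 3, 13, 10, 9, 6, 8, 15, 22, 7, 23, 19, 18, 14, 16, 4, 11, 20, 12, 17],
    [23, 5, 2, 17, 4, 0, 21, 13, 12, 11, 9, 8, 15, 16, 1, 18, 19, 14, 10, 6, 20, 22, 7, 3],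
    [2, 0, 17, 3, 6, 14, 15, 4, 8, 12, 19, 9, 13, 16, 23, 20, 10, 5, 7, 11, 22, 21, 18, 1],
    [14, 3, 2, 0, 20, 23, 15, 19, 12, 10, 7, 6, 9, 16, 1, 22, 8, 17, 4, 13, 11, 18, 21, 5],
    [5, 2, 23, 0, 9, 3, 13, 12, 4, 20, 7, 8, 22, 21, 17, 6, 10, 1, 18, 11, 15, 16, 19, 14],
    [],
    [0, 1, 3, 5, 19, 2, 9, 13, 10, 8, 7, 20, 22, 6, 17, 11, 18, 23, 16, 15, 21, 4, 12, 14],
    [5, 14, 2, 23, 4, 1, 19, 22, 11, 10, 18, 9, 8, 7, 17, 12, 13, 3, 15, 16, 20, 6, 21, 0],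
    [1, 23, 0, 3, 7, 17, 4, 18, 8, 11, 16, 19, 9, 12, 5, 6, 13, 2, 22, 10, 15, 21, 20, 14],
    [3, 14, 2, 1, 18, 23, 11, 10, 16, 12, 9, 20, 8, 19, 0, 6, 13, 17, 21, 7, 4, 22, 15, 5],
    [3, 17, 1, 5, 8, 0, 15, 10, 11, 4, 16, 19, 7, 6, 23, 20, 21, 14, 18, 22, 9, 13, 12, 2]]

/-- The six tetrads, as numbers. -/
def tetIdx : Fin 6 → List ℕ :=
  ![[0, 1, 2, 23],
    [3, 5, 14, 17],
    [8, 11, 12, 18],
    [9, 10, 15, 20],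
    [6, 7, 19, 21],
    [4, 13, 16, 22]]

/-- The tetrad of a number. -/
def tetNum : List (Fin 6) := [0, 0, 0, 1, 5, 1, 4, 4, 2, 3, 3, 2, 2, 5, 1, 3, 5, 1, 2, 4, 3, 4, 5, 0]

/-- A letter applied to a list. -/
def letterList (k : Fin 12) (l : List ℤ) : List ℤ :=
  if (k : ℕ) = 0 then
    let s := fun c => ((tetIdx c).map fun j => l.getD j 0).sum / 2
    (List.range 24).map fun n => if tetNum.getD n 0 = 0 then s (tetNum.getD n 0) - l.getD n 0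
      else l.getD n 0 - s (tetNum.getD n 0)
  else if (k : ℕ) = 6 then
    (List.range 24).map fun n => if Nat.testBit 8499969 n then -l.getD n 0 else l.getD n 0
  else (letterTab k).map fun j => l.getD j 0

/-- A word applied to a list, last letter first. -/
def wordList (wd : List (Fin 12)) (l : List ℤ) : List ℤ := wd.foldr letterList l

/-- The six words. -/
def wWord : Fin 6 → List (Fin 12) :=
  ![[1, 8, 0, 7, 11, 9, 6, 5, 6, 1, 11, 4, 7, 4, 7, 6, 10, 6, 4, 1],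
    [1, 3, 11, 7, 7, 11, 8, 8, 1, 6, 9, 6, 3, 7],
    [0, 2, 1, 11, 4, 2, 1, 0, 1, 6, 2, 0, 8, 6, 7],
    [0, 8, 0, 2, 7, 5, 9, 1, 2, 0, 2, 10, 2, 2, 11, 0],
    [0, 2, 7, 3, 8, 7, 5, 0, 7, 6, 10, 6, 4, 1],
    [2, 6, 8, 9, 10, 6, 4, 3, 1, 8, 0, 7, 11, 9, 6, 5, 6]]

/-- The permutations of the vectors given by the words. -/
def wPerm (i : Fin 6) (j : Fin 35) : Fin 35 :=
  ((![[0, 30, 34, 33, 25, 24, 28, 22, 8, 15, 12, 19, 16, 7, 14, 21, 10, 17, 11, 18, 20, 9, 13, 1, 32, 31, 6, 2, 26, 3, 23, 4, 5, 29, 27],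
    [0, 6, 3, 2, 4, 5, 1, 17, 18, 15, 16, 19, 20, 22, 21, 9, 10, 7, 8, 11, 12, 14, 13, 23, 25, 24, 26, 29, 30, 27, 28, 32, 31, 33, 34],
    [17, 30, 9, 29, 4, 18, 10, 7, 8, 2, 6, 32, 26, 22, 14, 27, 28, 0, 5, 24, 20, 34, 13, 23, 19, 31, 12, 15, 16, 3, 1, 25, 11, 33, 21],
    [0, 30, 25, 24, 34, 33, 28, 12, 8, 15, 22, 19, 7, 16, 14, 9, 13, 20, 18, 11, 17, 21, 10, 23, 3, 2, 26, 31, 6, 32, 1, 27, 29, 5, 4],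
    [0, 3, 6, 1, 4, 5, 2, 7, 8, 10, 9, 19, 21, 22, 20, 16, 15, 17, 18, 11, 14, 12, 13, 33, 32, 31, 34, 28, 27, 30, 29, 25, 24, 23, 26],
    [0, 30, 24, 25, 33, 34, 28, 7, 14, 19, 16, 15, 12, 22, 8, 11, 10, 17, 21, 9, 20, 18, 13, 23, 2, 3, 26, 32, 6, 31, 1, 29, 27, 4, 5]] : Fin 6 → List (Fin 35)) i).getD j 0

/-- Multipliers and coefficients expressing multiples of the outer axes by the vectors. -/
def axisCoef : List (ℤ × List ℤ) :=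
  [ (3, [0, 0, 2, 0, 2, 0, 2, -2, 0, 0, -2, 1, -1, -1, 1, 0, 0, 0, 0, 0, 0, 0, 0, 0, 0, 0, 0, 0, 0, 0, 0, 0, 0, 0, 0, 2, 0]),
    (3, [0, 0, -2, 0, -2, 0, -2, 2, 0, 0, 2, -1, 1, 1, -1, 0, 0, 0, 0, 0, 0, 0, 0, 0, 0, 0, 0, 0, 0, 0, 0, 0, 0, 0, 0, 4, 0]),
    (1, [0, 0, 0, 0, 0, 0, 0, 0, 0, 0, 0, -1, 1, 1, -1, 0, 0, 0, 0, 0, 0, 0, 0, 0, 0, 0, 0, 0, 0, 0, 0, 0, 0, 0, 0, 0, 0]),
    (1, [0, 0, 0, 0, 0, 0, 0, 0, 0, 0, 0, 1, -1, 1, -1, 0, 0, 0, 0, 0, 0, 0, 0, 0, 0, 0, 0, 0, 0, 0, 0, 0, 0, 0, 0, 0, 0]),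
    (3, [6, 0, -2, 0, -2, 0, -2, 2, 0, 0, 2, -1, 1, 1, -1, 0, 0, 0, 0, 0, 0, 0, 0, 0, 0, 0, 0, 0, 0, 0, 0, 0, 0, 0, 0, -2, 0]),
    (3, [0, -6, 2, 0, 2, 0, 2, -2, 0, 0, -2, 1, -1, -1, 1, 0, 0, 0, 0, 0, 0, 0, 0, 0, 0, 0, 0, 0, 0, 0, 0, 0, 0, 0, 0, 2, 0]),
    (1, [0, 2, -2, 2, 0, 0, -2, 2, 2, 0, 0, 1, 1, -1, -1, -4, 0, 0, 0, 0, 0, 0, 0, 0, 0, 0, 0, 0, 0, 0, 0, 0, 0, 0, 0, 0, 0]),
    (1, [-2, 0, 0, -2, 2, 0, 2, -4, 2, 0, -2, 1, -3, -1, 3, 0, 0, 0, 0, 0, 0, 0, 0, 4, 0, 0, 0, 0, 0, 0, 0, 0, 0, 0, 0, 0, 0]),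
    (3, [0, 0, -4, 0, 2, 0, 2, -2, 0, 0, -2, 1, -1, -1, 1, 0, 0, 0, 0, 0, 0, 0, 0, 0, 0, 0, 0, 0, 0, 0, 0, 0, 0, 0, 0, 2, 0]),
    (3, [0, 0, 2, -6, 2, 0, 2, -2, 0, 0, -2, 1, -1, -1, 1, 0, 0, 0, 0, 0, 0, 0, 0, 0, 0, 0, 0, 0, 0, 0, 0, 0, 0, 0, 0, 2, 0]),
    (3, [0, 0, 2, 0, -4, 0, 2, -2, 0, 0, -2, 1, -1, -1, 1, 0, 0, 0, 0, 0, 0, 0, 0, 0, 0, 0, 0, 0, 0, 0, 0, 0, 0, 0, 0, 2, 0]),
    (1, [0, 0, 0, 0, 0, 0, 0, 0, 0, 0, 0, 1, 1, -1, -1, 0, 0, 0, 0, 0, 0, 0, 0, 0, 0, 0, 0, 0, 0, 0, 0, 0, 0, 0, 0, 0, 0]),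
    (1, [0, 0, 0, 0, 0, 0, 0, 2, -2, 0, 0, -1, 1, 1, -1, 0, 0, 0, 0, 0, 0, 0, 0, 0, 0, 0, 0, 0, 0, 0, 0, 0, 0, 0, 0, 0, 0]),
    (3, [0, 0, -4, 6, -4, 0, 2, 4, 0, 0, 4, -5, -1, -1, -5, 0, 0, 0, 0, 0, 0, 0, 0, 0, 0, 0, 0, 0, 0, 0, 0, 0, 0, 0, 0, 2, 0]),
    (1, [0, 0, 0, 0, 0, 0, 0, 0, 2, 0, -2, 1, -1, -1, 1, 0, 0, 0, 0, 0, 0, 0, 0, 0, 0, 0, 0, 0, 0, 0, 0, 0, 0, 0, 0, 0, 0]),
    (3, [0, 0, 2, 0, 2, 0, -4, -2, 0, 0, -2, 1, -1, -1, 1, 0, 0, 0, 0, 0, 0, 0, 0, 0, 0, 0, 0, 0, 0, 0, 0, 0, 0, 0, 0, 2, 0]) ]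

/-- The points outside the octad, as numbers. -/
def outIdx : List ℕ := [4, 6, 7, 8, 9, 10, 11, 12, 13, 15, 16, 18, 19, 20, 21, 22]

/-- The points of the base for bounding the permutation group. -/
def gramBase : List (Fin 35) := [0, 7, 12, 18, 21, 1, 6, 10, 2]

theorem idxPt_ptIdx : ∀ i : GolayPt, idxPt (ptIdx i) = i ∧ ptIdx i < 24 := by decide +kernel

theorem toVec_listOf (f : GolayPt → ℤ) : toVec (listOf f) = f := by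
  funext i
  rw [toVec, listOf, List.getD_eq_getElem _ _ (by simpa using (idxPt_ptIdx i).2), List.getElem_map,
    List.getElem_range, (idxPt_ptIdx i).1]

theorem tet_ok : (∀ c : Fin 6, (tetIdx c).Nodup) ∧
    (∀ (i : GolayPt) (c : Fin 6), tetrad i = c ↔ ptIdx i ∈ tetIdx c) ∧
    (∀ c : Fin 6, ∀ j ∈ tetIdx c, j < 24) ∧
    (∀ n : Fin 24, tetrad (idxPt n) = tetNum.getD n 0 ∧ ptIdx (idxPt n) = n ∧
      (inLiftWord (some 0) (idxPt n) = 0 ↔ Nat.testBit 8499969 n = false)) := by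
  decide +kernel

theorem tab_ok : ∀ k : Fin 5, ∀ n : Fin 24,
    ptIdx (tableFun (spreadTables k).1.2 (idxPt n)) =
      (letterTab ⟨(k : ℕ) + 1, by omega⟩).getD n 0 ∧
    ptIdx (tableFun (spreadTables k).1.1 (idxPt n)) =
      (letterTab ⟨(k : ℕ) + 7, by omega⟩).getD n 0 ∧
    (letterTab ⟨(k : ℕ) + 1, by omega⟩).length = 24 ∧
    (letterTab ⟨(k : ℕ) + 7, by omega⟩).length = 24 := by
  decide +kernel

theorem tetSum_toVec (l : List ℤ) (c : Fin 6) :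
    tetSum (toVec l) c = ((tetIdx c).map fun j => l.getD j 0).sum := by
  rw [← List.sum_toFinset _ (tet_ok.1 c), tetSum]
  refine Finset.sum_bij' (fun i _ => ptIdx i) (fun j _ => idxPt j) (fun i hi => ?_) (fun j hj => ?_)
    (fun i _ => (idxPt_ptIdx i).1) (fun j hj => ?_) fun i _ => rfl
  · exact List.mem_toFinset.2 ((tet_ok.2.1 i c).1 (Finset.mem_filter.1 hi).2)
  · have hj' := List.mem_toFinset.1 hj
    refine Finset.mem_filter.2 ⟨Finset.mem_univ _, (tet_ok.2.1 _ c).2 ?_⟩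
    rw [(tet_ok.2.2.2 ⟨j, tet_ok.2.2.1 c j hj'⟩).2.1]; exact hj'
  · exact (tet_ok.2.2.2 ⟨j, tet_ok.2.2.1 c j (List.mem_toFinset.1 hj)⟩).2.1

theorem letterList_eq (k : Fin 12) (l : List ℤ) :
    letterList k l = listOf (letterFun k (toVec l)) := by
  have htab : ∀ (t : List ℕ) (f : GolayPt → GolayPt), t.length = 24 →
      (∀ n : Fin 24, ptIdx (f (idxPt n)) = t.getD n 0) →
      (t.map fun j => l.getD j 0) = listOf (fun i => toVec l (f i)) := fun t f ht h => by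
    refine List.ext_getElem (by simp [listOf, ht]) fun n h1 h2 => ?_
    have hn : n < 24 := by simpa [listOf] using h2
    simp only [listOf, List.getElem_map, List.getElem_range, toVec, h ⟨n, hn⟩]
    rw [List.getD_eq_getElem t 0 (by omega)]
  have hmap : ∀ f g : ℕ → ℤ, (∀ n : Fin 24, f n = g n) →
      (List.range 24).map f = (List.range 24).map g := fun f g h =>
    List.map_congr_left fun n hn => h ⟨n, List.mem_range.1 hn⟩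
  have hval : ∀ n : Fin 24, toVec l (idxPt n) = l.getD n 0 := fun n => by
    rw [toVec, (tet_ok.2.2.2 n).2.1]
  fin_cases k
  · show letterList 0 l = listOf (xiFun (toVec l))
    simp only [letterList, Fin.val_zero, if_true, listOf]
    refine hmap _ _ fun n => ?_
    show _ = xiFun (toVec l) (idxPt n)
    rw [xiFun, (tet_ok.2.2.2 n).1, tetSum_toVec, hval]
  · exact htab _ _ (tab_ok 0 0).2.2.1 fun n => (tab_ok 0 n).1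
  · exact htab _ _ (tab_ok 1 0).2.2.1 fun n => (tab_ok 1 n).1
  · exact htab _ _ (tab_ok 2 0).2.2.1 fun n => (tab_ok 2 n).1
  · exact htab _ _ (tab_ok 3 0).2.2.1 fun n => (tab_ok 3 n).1
  · exact htab _ _ (tab_ok 4 0).2.2.1 fun n => (tab_ok 4 n).1
  · show letterList 6 l = listOf fun i => if inLiftWord (some 0) i = 0 then toVec l i else -toVec l i
    rw [letterList, if_neg (by decide), if_pos (by decide), listOf]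
    refine hmap _ _ fun n => ?_
    show _ = if inLiftWord (some 0) (idxPt n) = 0 then toVec l (idxPt n) else -toVec l (idxPt n)
    rw [hval]
    by_cases h : inLiftWord (some 0) (idxPt n) = 0
    · rw [if_pos h, if_neg (by rw [(tet_ok.2.2.2 n).2.2.1 h]; simp)]
    · rw [if_neg h, if_pos (by simpa using mt (tet_ok.2.2.2 n).2.2.2 h)]
  · exact htab _ _ (tab_ok 0 0).2.2.2 fun n => (tab_ok 0 n).2.1
  · exact htab _ _ (tab_ok 1 0).2.2.2 fun n => (tab_ok 1 n).2.1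
  · exact htab _ _ (tab_ok 2 0).2.2.2 fun n => (tab_ok 2 n).2.1
  · exact htab _ _ (tab_ok 3 0).2.2.2 fun n => (tab_ok 3 n).2.1
  · exact htab _ _ (tab_ok 4 0).2.2.2 fun n => (tab_ok 4 n).2.1

/-- Several lists in one, as digits to base 64. -/
def packList (ls : List (List ℤ)) : List ℤ :=
  ls.foldr (fun x acc => List.zipWith (fun a b => a + 64 * b) x acc) (List.replicate 24 0)

theorem words_fix : ∀ i : Fin 6, wordList (wWord i) vList = vList ∧ wordList (wWord i) wList = wList := by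
  decide +kernel

theorem words_pack : ∀ i : Fin 6, wordList (wWord i) (packList ((List.finRange 35).map xList)) =
    packList ((List.finRange 35).map fun j => xList (wPerm i j)) := by
  decide +kernel

theorem word_sq : (wordList (wWord 1 ++ wWord 1) (List.replicate 23 0 ++ [8])).getD 23 0 = -8 := by
  decide +kernel

end CfsgLib.McLInv
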