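import Cfsg.Agent.McLInv.Action
import Cfsg.Agent.S3335
import Cfsg.Prelude.Def_SporadicB
import Cfsg.Agent.Eq.Def_SporadicB

/-!
The centraliser of the sign change in the joint stabiliser is a double cover of the alternating
group of degree 8, and does not split.
-/

set_option autoImplicit false
set_option linter.style.haveILetI false

namespace CfsgLib.McLInv

open Cfsg CfsgLib.Leech
open scoped Pointwise

/-- A letter as an element. -/
noncomputable def letter (k : Fin 12) : octCent :=
  if h : (k : ℕ) < 7 then gen ⟨k, h⟩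
  else (⟨permHom (spreadPerm (Fin.ofNat 5 ((k : ℕ) - 7))),
    Subgroup.mem_centralizer_singleton_iff.2 (spreadPerm_comm _)⟩ : octCent)⁻¹

theorem letter_apply (k : Fin 12) (x : leechLattice) :
    (((letter k : Co0) • x : leechLattice) : GolayPt → ℤ) = letterFun k (x : GolayPt → ℤ) := by
  unfold letter letterFun
  by_cases h : (k : ℕ) < 7
  · rw [dif_pos h, dif_pos h]
    exact gen_apply _ _
  · rw [dif_neg h, dif_neg h, Subgroup.coe_inv, ← map_inv]
    funext i
    rw [permHom_apply]
    rfl

theorem word_apply (l : List ℤ) (x : leechLattice) (hl : toVec l = (x : GolayPt → ℤ)) :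
    ∀ wd : List (Fin 12),
      ((((wd.map letter).prod : octCent) : Co0) • x : leechLattice).1 = toVec (wordList wd l)
  | [] => by
    rw [List.map_nil, List.prod_nil, Subgroup.coe_one, one_smul]
    exact hl.symm
  | k :: wd => by
    rw [List.map_cons, List.prod_cons, Subgroup.coe_mul, mul_smul, letter_apply,
      word_apply l x hl wd]
    show _ = toVec (letterList k (wordList wd l))
    rw [letterList_eq, toVec_listOf]

/-- Several vectors in one. -/
noncomputable def packVec (us : List leechLattice) : leechLattice :=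
  us.foldr (fun u acc => u + (64 : ℤ) • acc) 0

theorem packVec_smul (g : Co0) :
    ∀ us : List leechLattice, g • packVec us = packVec (us.map fun u => g • u)
  | [] => co0_map_zero g
  | u :: us => by
    simp only [packVec, List.foldr_cons, List.map_cons, co0_map_add, co0_map_zsmul]
    rw [show g • List.foldr (fun u acc => u + (64 : ℤ) • acc) 0 us = _ from packVec_smul g us]
    rfl

theorem packVec_injective : ∀ (us ts : List leechLattice), us.length = ts.length →
    (∀ u ∈ us, ∀ i, ((u : GolayPt → ℤ) i).natAbs ≤ 8) →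
    (∀ u ∈ ts, ∀ i, ((u : GolayPt → ℤ) i).natAbs ≤ 8) → packVec us = packVec ts → us = ts
  | [], [], _, _, _, _ => rfl
  | [], _ :: _, h, _, _, _ => by simp at h
  | _ :: _, [], h, _, _, _ => by simp at h
  | u :: us, t :: ts, h, hu, ht, e => by
    have hcoord : ∀ i, (u : GolayPt → ℤ) i + 64 * (packVec us : GolayPt → ℤ) i =
        (t : GolayPt → ℤ) i + 64 * (packVec ts : GolayPt → ℤ) i := fun i => by
      have := congrFun (congrArg Subtype.val e) i
      simpa [packVec] using this
    have hut : u = t := Subtype.ext (funext fun i => by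
      have h1 := hu u List.mem_cons_self i
      have h2 := ht t List.mem_cons_self i
      have h3 := hcoord i
      omega)
    subst hut
    rw [packVec_injective us ts (by simpa using h) (fun x hx => hu x (List.mem_cons_of_mem _ hx))
      (fun x hx => ht x (List.mem_cons_of_mem _ hx))
      (Subtype.ext (funext fun i => by have := hcoord i; omega))]

theorem packList_spec (F : List ℤ → leechLattice) :
    ∀ ls : List (List ℤ), (∀ l ∈ ls, l.length = 24 ∧ (F l : GolayPt → ℤ) = toVec l) →
      (packList ls).length = 24 ∧ toVec (packList ls) = (packVec (ls.map F) : GolayPt → ℤ)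
  | [], _ => by
    refine ⟨by simp [packList], funext fun i => ?_⟩
    show (List.replicate 24 (0 : ℤ)).getD (ptIdx i) 0 = 0
    rw [List.getD_eq_getElem _ _ (by simpa using (idxPt_ptIdx i).2), List.getElem_replicate]
  | l :: ls, h => by
    obtain ⟨h1, h2⟩ := packList_spec F ls fun x hx => h x (List.mem_cons_of_mem _ hx)
    obtain ⟨hl, hF⟩ := h l List.mem_cons_self
    refine ⟨?_, funext fun i => ?_⟩
    · show (List.zipWith _ l (packList ls)).length = 24
      rw [List.length_zipWith, hl, h1, min_self]
    · show (List.zipWith (fun a b => a + 64 * b) l (packList ls)).getD (ptIdx i) 0 = _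
      rw [List.getD_eq_getElem _ _ (by rw [List.length_zipWith, hl, h1, min_self]; exact (idxPt_ptIdx i).2),
        List.getElem_zipWith]
      have e1 := congrFun hF i
      have e2 := congrFun h2 i
      rw [toVec, List.getD_eq_getElem _ _ (by rw [h1]; exact (idxPt_ptIdx i).2)] at e2
      rw [toVec, List.getD_eq_getElem _ _ (by rw [hl]; exact (idxPt_ptIdx i).2)] at e1
      simp [packVec, e1, e2]

/-- An element of the octad centraliser given by a word. -/
noncomputable def wordElt (i : Fin 6) : Co0 := (((wWord i).map letter).prod : octCent)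

theorem wordElt_fix (i : Fin 6) : wordElt i • vV = vV ∧ wordElt i • wV = wV :=
  ⟨Subtype.ext ((word_apply vList vV rfl _).trans (congrArg toVec (words_fix i).1)),
    Subtype.ext ((word_apply wList wV rfl _).trans (congrArg toVec (words_fix i).2))⟩

/-- A word in the centraliser. -/
noncomputable def wGen (i : Fin 6) : mclCent :=
  ⟨wordElt i, wordElt_fix i, (((wWord i).map letter).prod : octCent).2⟩

theorem wGen_xHom (i : Fin 6) (j : Fin 35) : xHom (wGen i) j = wPerm i j := by
  classical
  let F : List ℤ → leechLattice := fun l =>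
    if h : toVec l ∈ leechLattice then ⟨toVec l, h⟩ else 0
  have hFx : ∀ j, F (xList j) = xV j := fun j => dif_pos (xV j).2
  have hmem : ∀ (f : Fin 35 → Fin 35), ∀ l ∈ (List.finRange 35).map (fun j => xList (f j)),
      l.length = 24 ∧ (F l : GolayPt → ℤ) = toVec l := fun f l hl => by
    obtain ⟨j, -, rfl⟩ := List.mem_map.1 hl
    exact ⟨(lists_shape.2.2.2.1 _).1, by rw [hFx]; rfl⟩
  have hsmall : ∀ u : leechLattice, nrm u = 32 → ∀ i, ((u : GolayPt → ℤ) i).natAbs ≤ 8 := fun u hu i => by
    obtain ⟨h1, h2⟩ := abs_le_eight (x := (u : GolayPt → ℤ)) (by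
      have h : sqNorm (u : GolayPt → ℤ) = 32 := hu
      omega) i
    omega
  have hA := (packList_spec F _ (hmem id)).2
  have hB := (packList_spec F _ (hmem (wPerm i))).2
  have e : wordElt i • packVec (((List.finRange 35).map xList).map F) =
      packVec (((List.finRange 35).map fun j => xList (wPerm i j)).map F) :=
    Subtype.ext ((word_apply _ _ hA _).trans ((congrArg toVec (words_pack i)).trans hB))
  rw [packVec_smul] at e
  have e' := packVec_injective _ _ (by simp) ?_ ?_ e
  · simp only [List.map_map] at e'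
    have := List.map_inj_left.1 e' j (List.mem_finRange j)
    simp only [Function.comp, hFx] at this
    exact xV_injective ((xImage_spec _ _).trans this)
  · intro u hu
    simp only [List.map_map, List.mem_map] at hu
    obtain ⟨j, -, rfl⟩ := hu
    refine hsmall _ ?_
    simp only [Function.comp, hFx, nrm_smul]
    exact (isX_xV j).1
  · intro u hu
    simp only [List.map_map, List.mem_map] at hu
    obtain ⟨j, -, rfl⟩ := hu
    refine hsmall _ ?_
    simp only [Function.comp, hFx]
    exact (isX_xV _).1

theorem wPerm_rel : (∀ j, wPerm 0 (wPerm 0 (wPerm 0 j)) = j) ∧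
    (∀ i : Fin 6, 1 ≤ (i : ℕ) → ∀ j, wPerm i (wPerm i j) = j) ∧
    (∀ i k : Fin 6, (k : ℕ) = i + 1 →
      ∀ j, wPerm i (wPerm k (wPerm i (wPerm k (wPerm i (wPerm k j))))) = j) ∧
    (∀ i k : Fin 6, (i : ℕ) + 1 < k → ∀ j, wPerm i (wPerm k (wPerm i (wPerm k j))) = j) ∧
    (∃ j, wPerm 1 j ≠ j) := by
  decide +kernel

theorem xHom_gram (g : mclCent) (a b : Fin 35) : gram (xHom g a) (xHom g b) = gram a b := by
  have hd : ∀ c d, ip (xV c) (xV d) = gram c d := fun c d => dot_toVec (supp_x c)
  rw [← hd, ← hd, show xV (xHom g a) = _ from xImage_spec g a,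
    show xV (xHom g b) = _ from xImage_spec g b, ip_smul]

/-- The pointwise stabiliser of a list inside a group of permutations. -/
def fixList (H : Subgroup (Equiv.Perm (Fin 35))) (pre : List (Fin 35)) : Subgroup (Equiv.Perm (Fin 35)) where
  carrier := {σ | σ ∈ H ∧ ∀ p ∈ pre, σ p = p}
  one_mem' := ⟨one_mem _, fun _ _ => rfl⟩
  mul_mem' {a b} ha hb := ⟨mul_mem ha.1 hb.1, fun p hp => by
    rw [Equiv.Perm.mul_apply, hb.2 p hp, ha.2 p hp]⟩
  inv_mem' {a} ha := ⟨inv_mem ha.1, fun p hp => by
    rw [Equiv.Perm.inv_eq_iff_eq, ha.2 p hp]⟩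

theorem card_fixList_le (H : Subgroup (Equiv.Perm (Fin 35)))
    (hH : ∀ σ ∈ H, ∀ a b, gram (σ a) (σ b) = gram a b) :
    ∀ (bs pre : List (Fin 35)), (∀ b, gramCand (pre ++ bs) b = [b]) →
      Nat.card (fixList H pre) ≤ gramProd pre bs
  | [], pre, hsep => by
    rw [gramProd]
    refine le_of_eq (Subgroup.card_eq_one.2 ((Subgroup.eq_bot_iff_forall _).2 fun σ hσ => ?_))
    refine Equiv.ext fun b => ?_
    have hm : σ b ∈ gramCand pre b := by
      refine List.mem_filter.2 ⟨List.mem_finRange _, List.all_eq_true.2 fun p hp => ?_⟩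
      rw [beq_iff_eq]
      have := hH σ hσ.1 b p
      rwa [hσ.2 p hp] at this
    have h := hsep b
    rw [List.append_nil] at h
    rw [h, List.mem_singleton] at hm
    exact hm
  | b :: bs, pre, hsep => by
    classical
    set S := fixList H pre
    have ih := card_fixList_le H hH bs (pre ++ [b]) fun c => by
      rw [List.append_assoc]; exact hsep c
    have hstab : Nat.card (MulAction.stabilizer S b) = Nat.card (fixList H (pre ++ [b])) := by
      refine Nat.card_congr ⟨fun σ => ⟨σ.1.1, σ.1.2.1, fun p hp => ?_⟩,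
        fun σ => ⟨⟨σ.1, σ.2.1, fun p hp => σ.2.2 p (by simp [hp])⟩, σ.2.2 b (by simp)⟩,
        fun _ => rfl, fun _ => rfl⟩
      rcases List.mem_append.1 hp with hp | hp
      · exact σ.1.2.2 p hp
      · rw [List.mem_singleton] at hp
        subst hp
        exact σ.2
    have horb : Nat.card (MulAction.orbit S b) ≤ (gramCand pre b).length := by
      refine le_trans ?_ (List.toFinset_card_le _)
      rw [← Nat.card_eq_finsetCard]
      refine Nat.card_le_card_of_injective (fun c => ⟨c.1, ?_⟩)
        fun c d e => Subtype.ext (congrArg (fun x => x.1) e)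
      obtain ⟨_, ⟨σ, rfl⟩⟩ := c
      refine List.mem_toFinset.2 (List.mem_filter.2 ⟨List.mem_finRange _, List.all_eq_true.2 fun p hp => ?_⟩)
      rw [beq_iff_eq]
      have := hH σ.1 σ.2.1 b p
      rwa [σ.2.2 p hp] at this
    have hcard := Nat.card_congr (MulAction.orbitProdStabilizerEquivGroup S b)
    rw [Nat.card_prod, hstab] at hcard
    rw [gramProd, ← hcard]
    exact Nat.mul_le_mul horb ih

theorem xHom_range_le : Nat.card xHom.range ≤ 40320 := by
  have h := card_fixList_le xHom.range (fun σ hσ a b => by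
    obtain ⟨g, rfl⟩ := hσ
    exact xHom_gram g a b) gramBase [] (by simpa using gram_ok.2)
  rw [gram_ok.1, show fixList xHom.range [] = xHom.range from
    SetLike.ext fun σ => show (σ ∈ xHom.range ∧ _) ↔ σ ∈ xHom.range from
      ⟨fun h => h.1, fun h => ⟨h, fun p hp => absurd hp (List.not_mem_nil)⟩⟩] at h
  exact h

theorem epsC_facts : epsC ≠ 1 ∧ epsC * epsC = 1 ∧ ∀ g : mclCent, g * epsC = epsC * g := by
  refine ⟨fun h => ?_, Subtype.ext ?_, fun g => Subtype.ext (mclCent_spec g).2.2⟩
  · have h1 := congrFun (congrArg Subtype.val (congrArg (fun g : mclCent => (g : Co0) • axisVec (octPts 0)) h))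
      (octPts 0)
    simp [epsC, epsOct, signs_apply, axisVec, single, octPts_ok.1 0] at h1
  · show epsOct * epsOct = 1
    rw [epsOct, signs_mul]
    refine (signs_congr _ (Submodule.zero_mem _) (funext fun i => ?_)).trans (signs_zero _)
    show baseOctad i + baseOctad i = 0
    exact CharTwo.add_self_eq_zero _

/-- The centraliser is a non-split double cover. -/
theorem mclCent_cover (hdvd : Nat.card mclCent ∣ 898128000) :
    IsNonsplitDoubleCover mclCent (alternatingGroup (Fin 8)) := by
  haveI : Finite Co0 := finite_co0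
  haveI : Fact (Nat.Prime 2) := ⟨Nat.prime_two⟩
  set R := xHom.range
  let s : Fin 6 → R := fun i => xHom.rangeRestrict (wGen i)
  have hs : ∀ i j, (s i : Equiv.Perm (Fin 35)) j = wPerm i j := wGen_xHom
  obtain ⟨r3, r2, ra, rf, j₁, hj₁⟩ := wPerm_rel
  have hrel : Cfsg.Agent.S3335.CarRel s := by
    refine ⟨fun i hi => ?_, fun i hi => ?_, fun i k hik => ?_, fun i k hik => ?_⟩ <;>
      refine Subtype.ext (Equiv.ext fun j => ?_)
    · obtain rfl : i = 0 := Fin.ext hi
      simp [pow_succ, hs, r3]
    · simp [pow_succ, hs, r2 i hi]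
    · simp [pow_succ, hs, ra i k hik]
    · simp [pow_succ, hs, rf i k hik]
  let f : PresentedGroup (Cfsg.Agent.S3335.carRels 6) →* R :=
    PresentedGroup.toGroup (Cfsg.Agent.S3335.lift_of_carRel hrel)
  obtain ⟨eA⟩ := Cfsg.Agent.S3335.nonempty_equiv 6
  haveI : IsSimpleGroup (alternatingGroup (Fin 8)) := alternatingGroup.isSimpleGroup (by simp)
  haveI : IsSimpleGroup (PresentedGroup (Cfsg.Agent.S3335.carRels 6)) := eA.isSimpleGroup
  have hfi : Function.Injective f := by
    rw [← MonoidHom.ker_eq_bot_iff]
    refine (Subgroup.Normal.eq_bot_or_eq_top (inferInstance : f.ker.Normal)).resolve_right fun h => ?_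
    refine hj₁ ((hs 1 j₁).symm.trans ?_)
    have h1 : f (PresentedGroup.of 1) = 1 := MonoidHom.mem_ker.1 (h ▸ Subgroup.mem_top _)
    rw [show s 1 = f (PresentedGroup.of 1) from
      (PresentedGroup.toGroup.of (h := Cfsg.Agent.S3335.lift_of_carRel hrel)).symm, h1]
    rfl
  have hP : Nat.card (PresentedGroup (Cfsg.Agent.S3335.carRels 6)) = 20160 := by
    rw [Nat.card_congr eA.toEquiv, Nat.card_eq_fintype_card, card_alternatingGroup]
    simp [Nat.factorial]
  set Z := Subgroup.zpowers epsC with hZ
  have hZ2 : Nat.card Z = 2 := by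
    rw [hZ, Nat.card_zpowers]
    exact orderOf_eq_prime (by rw [sq, epsC_facts.2.1]) epsC_facts.1
  have hker : xHom.ker = Z := by
    refine le_antisymm (fun g hg => ?_) (Subgroup.zpowers_le.2 xHom_eps)
    rcases xHom_ker hg with rfl | rfl
    exacts [one_mem _, Subgroup.mem_zpowers _]
  have hcard : Nat.card mclCent = Nat.card R * 2 := by
    rw [Subgroup.card_eq_card_quotient_mul_card_subgroup xHom.ker,
      Nat.card_congr (QuotientGroup.quotientKerEquivRange xHom).toEquiv, hker, hZ2]
  have hR : Nat.card R = 20160 := by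
    have h1 : 20160 ∣ Nat.card R := hP ▸ Subgroup.card_dvd_of_injective f hfi
    have h2 : Nat.card R ≤ 40320 := xHom_range_le
    have h3 : 0 < Nat.card R := Nat.card_pos
    obtain ⟨c, hc⟩ := h1
    have hc1 : c = 1 ∨ c = 2 := by omega
    rcases hc1 with rfl | rfl
    · omega
    · rw [hcard, hc] at hdvd
      norm_num at hdvd
  have hfs : Function.Surjective f :=
    ((Nat.bijective_iff_injective_and_card f).2 ⟨hfi, hP.trans hR.symm⟩).2
  let e : mclCent ⧸ xHom.ker ≃* alternatingGroup (Fin 8) :=
    (QuotientGroup.quotientKerEquivRange xHom).trans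
      ((MulEquiv.ofBijective f ⟨hfi, hfs⟩).symm.trans eA)
  have hcen : Subgroup.center mclCent = xHom.ker := by
    refine le_antisymm (fun g hg => ?_) ?_
    · have hA : Subgroup.center (alternatingGroup (Fin 8)) = ⊥ :=
        alternatingGroup.center_eq_bot (by simp)
      have : e (QuotientGroup.mk g) ∈ Subgroup.center (alternatingGroup (Fin 8)) := by
        refine Subgroup.mem_center_iff.2 fun b => ?_
        obtain ⟨b', rfl⟩ := e.surjective b
        obtain ⟨c, rfl⟩ := QuotientGroup.mk'_surjective xHom.ker b'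
        rw [QuotientGroup.mk'_apply, ← map_mul, ← map_mul, ← QuotientGroup.mk_mul,
          ← QuotientGroup.mk_mul, Subgroup.mem_center_iff.1 hg c]
      rw [hA, Subgroup.mem_bot, ← map_one e] at this
      exact (QuotientGroup.eq_one_iff g).1 (e.injective this)
    · rw [hker, hZ, Subgroup.zpowers_le, Subgroup.mem_center_iff]
      exact epsC_facts.2.2
  refine ⟨by rw [hcen, hker, hZ2], ⟨(QuotientGroup.quotientMulEquivOfEq hcen).trans e⟩, fun L hL => ?_⟩
  rw [hcen] at hL
  have hne : wGen 1 * wGen 1 ≠ 1 := fun h => by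
    have h1 := congrArg (fun g : mclCent => ((g : Co0) • axisVec none : leechLattice).1 none) h
    simp only [Subgroup.coe_one, one_smul] at h1
    have h2 : toVec (List.replicate 23 0 ++ [8]) = (axisVec none : GolayPt → ℤ) := by
      funext i; revert i; decide +kernel
    have h3 : ((wGen 1 * wGen 1 : mclCent) : Co0) =
        (((wWord 1 ++ wWord 1).map letter).prod : octCent) := by
      rw [List.map_append, List.prod_append]; rfl
    rw [h3, word_apply _ _ h2] at h1
    rw [show toVec _ none = _ from word_sq] at h1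
    simp [axisVec, single] at h1
  have hsq : wGen 1 * wGen 1 = epsC := by
    refine (xHom_ker ?_).resolve_left hne
    rw [map_mul]
    refine Equiv.ext fun j => ?_
    rw [Equiv.Perm.mul_apply, wGen_xHom, wGen_xHom, r2 1 le_rfl]
    rfl
  obtain ⟨a, ha, b, hb, hab⟩ : wGen 1 ∈ (xHom.ker : Set mclCent) * (L : Set mclCent) := by
    rw [hL.mul_eq]; trivial
  have haa : a * a = 1 := by
    rcases xHom_ker ha with rfl | rfl
    exacts [one_mul 1, epsC_facts.2.1]
  have hc : b * a = a * b := by
    have hac : a ∈ Subgroup.center mclCent := by rw [hcen]; exact ha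
    exact Subgroup.mem_center_iff.1 hac b
  have hbb : b * b = epsC := by
    rw [← hsq, show wGen 1 = a * b from hab.symm]
    calc b * b = (a * a) * (b * b) := by rw [haa, one_mul]
      _ = a * (a * b) * b := by group
      _ = a * (b * a) * b := by rw [hc]
      _ = a * b * (a * b) := by group
  exact epsC_facts.1 (Subgroup.disjoint_def.1 hL.disjoint (xHom_eps : epsC ∈ xHom.ker)
    (hbb ▸ L.mul_mem hb hb))

end CfsgLib.McLInv
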