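import Cfsg.Agent.McLInv.Cover
import Cfsg.Agent.McLInv.Classes
import Cfsg.Agent.S5323

/-!
Transfer to the joint stabiliser that defines the group.
-/

set_option autoImplicit false
set_option linter.style.haveILetI false

namespace CfsgLib.McLInv

open Cfsg CfsgLib.Leech
open scoped Pointwise

theorem cover_congr {H H' K : Type*} [Group H] [Group H'] [Group K] (e : H' ≃* H)
    (h : IsNonsplitDoubleCover H K) : IsNonsplitDoubleCover H' K := by
  obtain ⟨h1, ⟨q⟩, h3⟩ := h
  have hm : (Subgroup.center H').map e.toMonoidHom = Subgroup.center H := by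
    ext x
    rw [Subgroup.mem_map_equiv, Subgroup.mem_center_iff, Subgroup.mem_center_iff]
    refine ⟨fun hx g => ?_, fun hx g => ?_⟩
    · exact e.symm.injective (by rw [map_mul, map_mul]; exact hx _)
    · exact e.injective (by rw [map_mul, map_mul, e.apply_symm_apply]; exact hx _)
  refine ⟨?_, ⟨(QuotientGroup.congr _ _ e hm).trans q⟩, fun L hL => h3 (L.map e.toMonoidHom) ?_⟩
  · rw [← hm, Subgroup.card_map_of_injective (f := e.toMonoidHom) e.injective] at h1
    exact h1
  · rw [← hm]
    refine Subgroup.isComplement'_of_disjoint_and_mul_eq_univ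
      (Subgroup.disjoint_map (f := e.toMonoidHom) e.injective hL.disjoint) ?_
    ext x
    simp only [Set.mem_univ, iff_true]
    obtain ⟨a, ha, b, hb, hab⟩ : e.symm x ∈ (Subgroup.center H' : Set H') * (L : Set H') := by
      rw [hL.mul_eq]; trivial
    exact ⟨e a, Subgroup.mem_map_of_mem e.toMonoidHom ha, e b, Subgroup.mem_map_of_mem e.toMonoidHom hb,
      by rw [← e.apply_symm_apply x, ← hab, map_mul]⟩

theorem mcl_involutions :
    (∀ x y : ↥Cfsg.Spor.McL, orderOf x = 2 → orderOf y = 2 → IsConj x y) ∧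
      ∃ t : ↥Cfsg.Spor.McL, orderOf t = 2 ∧ Cfsg.IsNonsplitDoubleCover
        ↥(Subgroup.centralizer ({t} : Set ↥Cfsg.Spor.McL)) ↥(alternatingGroup (Fin 8)) := by
  haveI : Finite Co0 := finite_co0
  haveI : Fact (Nat.Prime 2) := ⟨Nat.prime_two⟩
  obtain ⟨hu, ho, hud⟩ := mcl_base
  obtain ⟨hpn, hpn'⟩ := Cfsg.Agent.S5323.pair_facts
  constructor
  · obtain ⟨g, hg, hgw⟩ := exists_pair_neg8 _ _ _ _ hu hpn hpn' hu ho hud
    let e : Cfsg.Spor.McL ≃* pairStab Spor.leechU oddElt :=
      Cfsg.Agent.S5323.toPair.trans (pairStabEquiv hg hgw)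
    haveI : Finite Cfsg.Spor.McL := Finite.of_equiv _ e.symm.toEquiv
    intro x y hx hy
    exact isConj_involutions (e.symm.toMonoidHom.comp (m22Stab eleven_mcl))
      (e.symm.injective.comp (m22Stab_injective _))
      (by rw [Nat.card_congr e.toEquiv, card_mcl hu ho hud]) hx hy
  · obtain ⟨hv, hw, hvw⟩ := pair_facts
    obtain ⟨g, hg, hgw⟩ := exists_pair_neg8 _ _ _ _ hu hpn hpn' hv hw hvw
    let e : Cfsg.Spor.McL ≃* pairStab vV wV :=
      Cfsg.Agent.S5323.toPair.trans (pairStabEquiv hg hgw)
    let t₀ : pairStab vV wV := ⟨epsOct, eps_v, eps_w⟩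
    refine ⟨e.symm t₀, ?_, ?_⟩
    · rw [MulEquiv.orderOf_eq]
      refine orderOf_eq_prime ?_ fun h => epsC_facts.1 (Subtype.ext (congrArg Subtype.val h :))
      rw [sq]
      exact Subtype.ext (congrArg Subtype.val epsC_facts.2.1 :)
    · have hdvd : Nat.card mclCent ∣ 898128000 :=
        card_mcl hv hw hvw ▸ Subgroup.card_dvd_of_le inf_le_left
      refine cover_congr ?_ (mclCent_cover hdvd)
      refine
        { toFun := fun x => ⟨(e x.1).1, (e x.1).2, ?_⟩
          invFun := fun x => ⟨e.symm ⟨x.1, x.2.1⟩, ?_⟩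
          left_inv := fun x => Subtype.ext (e.symm_apply_apply x.1)
          right_inv := fun x => Subtype.ext (by simp)
          map_mul' := fun x y => Subtype.ext (by simp) }
      · refine Subgroup.mem_centralizer_singleton_iff.2 ?_
        have h := congrArg e (Subgroup.mem_centralizer_singleton_iff.1 x.2)
        rw [map_mul, map_mul, e.apply_symm_apply] at h
        exact congrArg Subtype.val h
      · refine Subgroup.mem_centralizer_singleton_iff.2 ?_
        rw [← map_mul, ← map_mul]
        exact congrArg e.symm (Subtype.ext (Subgroup.mem_centralizer_singleton_iff.1 x.2.2))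

end CfsgLib.McLInv
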